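import Mathlib

/-!
# Spectra of semilocal Prüfer domains of finite dimension
-/

universe u

namespace Groth.Agent.PruferSL

theorem finite_primeSpectrum (R : Type u) [CommRing R]
    (hR : ∀ (p : Ideal R) [p.IsPrime], ∃ _ : IsDomain (Localization.AtPrime p), ValuationRing (Localization.AtPrime p))
    (hfin : Finite (MaximalSpectrum R)) (hdim : ringKrullDim R < ⊤) : Finite (PrimeSpectrum R) := by
  classical
  rcases subsingleton_or_nontrivial R with hs | hn
  · infer_instance
  haveI : FiniteRingKrullDim R :=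
    finiteRingKrullDim_iff_ne_bot_and_top.mpr ⟨((WithBot.bot_lt_coe 0).trans_le ringKrullDim_nonneg_of_nontrivial).ne', hdim.ne⟩
  obtain ⟨N, hN⟩ : ∃ N : ℕ, ∀ p : PrimeSpectrum R, p.asIdeal.height ≤ N := by
    obtain ⟨N, hN⟩ : ∃ N : ℕ, ringKrullDim R ≤ (N : ℕ) := by
      generalize ringKrullDim R = d at hdim
      induction d using WithBot.recBotCoe with
      | bot => exact ⟨0, bot_le⟩
      | coe a =>
        induction a using WithTop.recTopCoe with
        | top => exact absurd hdim (lt_irrefl _)
        | coe n => exact ⟨n, le_rfl⟩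
    refine ⟨N, fun p => ?_⟩
    exact WithBot.coe_le_coe.mp ((Ideal.height_le_ringKrullDim_of_ne_top p.2.ne_top).trans hN)
  have key : ∀ m : MaximalSpectrum R, {p : PrimeSpectrum R | p.asIdeal ≤ m.asIdeal}.Finite := by
    intro m
    obtain ⟨_, _⟩ := hR m.asIdeal
    have htot : ∀ p q : PrimeSpectrum R, p.asIdeal ≤ m.asIdeal → q.asIdeal ≤ m.asIdeal →
        p.asIdeal ≤ q.asIdeal ∨ q.asIdeal ≤ p.asIdeal := by
      intro p q hp hq
      have hdis : ∀ r : PrimeSpectrum R, r.asIdeal ≤ m.asIdeal →
          Ideal.comap (algebraMap R (Localization.AtPrime m.asIdeal))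
            (r.asIdeal.map (algebraMap R (Localization.AtPrime m.asIdeal))) = r.asIdeal := fun r hr =>
        IsLocalization.comap_map_of_isPrime_disjoint m.asIdeal.primeCompl (Localization.AtPrime m.asIdeal) r.2
          (Set.disjoint_left.mpr fun x hx hxr => hx (hr hxr))
      rcases (ValuationRing.le_total_ideal (A := Localization.AtPrime m.asIdeal)).total
        (p.asIdeal.map (algebraMap R (Localization.AtPrime m.asIdeal)))
        (q.asIdeal.map (algebraMap R (Localization.AtPrime m.asIdeal))) with h | h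
      · exact Or.inl (by rw [← hdis p hp, ← hdis q hq]; exact Ideal.comap_mono h)
      · exact Or.inr (by rw [← hdis p hp, ← hdis q hq]; exact Ideal.comap_mono h)
    refine Set.Finite.of_finite_image (f := fun p : PrimeSpectrum R => p.asIdeal.height) ?_ ?_
    · refine ((Finset.range (N + 1)).image (fun n : ℕ => (n : ℕ∞))).finite_toSet.subset ?_
      rintro _ ⟨p, -, rfl⟩
      obtain ⟨a, ha⟩ := ENat.ne_top_iff_exists.mp (ne_top_of_le_ne_top (ENat.coe_ne_top N) (hN p))
      exact Finset.mem_coe.mpr (Finset.mem_image.mpr ⟨a, Finset.mem_range.mpr (Nat.lt_succ_of_le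
        (by exact_mod_cast ha ▸ hN p)), ha⟩)
    · intro p hp q hq h
      refine PrimeSpectrum.ext ?_
      rcases htot p q hp hq with hle | hle
      · exact eq_of_le_of_not_lt hle fun hlt =>
          (Ideal.height_strict_mono_of_isPrime_of_isPrime hlt).ne h
      · exact (eq_of_le_of_not_lt hle fun hlt =>
          (Ideal.height_strict_mono_of_isPrime_of_isPrime hlt).ne h.symm).symm
  refine Set.finite_univ_iff.mp ((Set.finite_iUnion key).subset fun p _ => ?_)
  obtain ⟨M, hM, hle⟩ := Ideal.exists_le_maximal p.asIdeal p.2.ne_top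
  exact Set.mem_iUnion.mpr ⟨⟨M, hM⟩, hle⟩

end Groth.Agent.PruferSL
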